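import Mathlib
import Groth.Prelude.Def_DualLC
import Groth.Agent.S1727
import Groth.Agent.Lib.Helper20.FaltAnn2
import Groth.Agent.Lib.Helper20.LCFlat

/-!
# Finiteness of local cohomology and the cutoff invariant: bridges (helper14)
-/

set_option autoImplicit false
set_option linter.style.haveILetI false
set_option linter.unusedSectionVars false
set_option linter.unusedVariables false
set_option maxHeartbeats 1600000

universe u

open CategoryTheory

namespace Groth.Agent.Lib.Helper14.CutoffFin

open Groth.Agent.Lib.Helper20 Groth.Agent.Lib.Helper4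

theorem height_Ici_eq_krullDim_Icc {α : Type*} [Preorder α] (p q : α) (h : p ≤ q) :
    ((Order.height (⟨q, h⟩ : Set.Ici p) : ℕ∞) : WithBot ℕ∞) = Order.krullDim (Set.Icc p q) := by
  rw [Order.height_eq_krullDim_Iic]
  exact Order.krullDim_eq_of_orderIso
    { toFun := fun x => ⟨x.1.1, x.1.2, x.2⟩
      invFun := fun y => ⟨⟨y.1, y.2.1⟩, y.2.2⟩
      left_inv := fun x => rfl
      right_inv := fun y => rfl
      map_rel_iff' := Iff.rfl }

section

variable {R : Type u} [CommRing R] [IsNoetherianRing R]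

/-- `H^i_I(M) ≅ H^i_{V(I)}(M)`. -/
theorem nonempty_H_equiv_HT (I : Ideal R) (M : Type u) [AddCommGroup M] [Module R M] (i : ℕ) :
    Nonempty (LocCoh.H I i M ≃ₗ[R] Dual2.HT (PrimeSpectrum.zeroLocus (I : Set R)) i M) := by
  let e1 := LC.lcEquiv I (ModuleCat.of R M) i
  let e2 := LinearEquiv.ofBijective
    (Falt.cmp I (PrimeSpectrum.zeroLocus (I : Set R)) subset_rfl (ModuleCat.of R M) i)
    ⟨Falt.cmp_injective I _ subset_rfl (ModuleCat.of R M) i subset_rfl,
      Falt.cmp_surjective I _ subset_rfl (ModuleCat.of R M) i subset_rfl⟩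
  let e3 := HTModel.htEquiv (PrimeSpectrum.zeroLocus (I : Set R)) (ModuleCat.of R M) i
  exact ⟨e1.trans (e2.trans e3.symm)⟩

end

section cutoff

variable (A : Type u) [CommRing A] (I : Ideal A) (M : Type u) [AddCommGroup M] [Module A M]

theorem lt_cutoff_iff (s : ℕ) :
    (s : ℕ∞) < Dual2.cutoff A I M ↔ ∀ p q : PrimeSpectrum A, ¬ I ≤ p.asIdeal → I ≤ q.asIdeal →
      p ≤ q → (s : WithBot ℕ∞) <
        ((LocCoh.depth (Localization.AtPrime p.asIdeal)
          (LocalizedModule p.asIdeal.primeCompl M) : ℕ∞) : WithBot ℕ∞) +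
          Order.krullDim (Set.Icc p q) := by
  constructor
  · intro h p q hp hq hpq
    have h1 : Dual2.cutoff A I M ≤
        LocCoh.depth (Localization.AtPrime p.asIdeal) (LocalizedModule p.asIdeal.primeCompl M) +
          Order.height (⟨q, hpq⟩ : Set.Ici p) := by
      unfold Dual2.cutoff
      exact iInf_le_of_le p (iInf_le_of_le q (iInf_le_of_le hpq
        (iInf_le_of_le hp (iInf_le_of_le hq le_rfl))))
    have h2 := lt_of_lt_of_le h h1
    rw [← height_Ici_eq_krullDim_Icc p q hpq, ← WithBot.coe_add]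
    exact_mod_cast h2
  · intro h
    rw [← ENat.add_one_le_iff (ENat.coe_ne_top s)]
    unfold Dual2.cutoff
    refine le_iInf fun p => le_iInf fun q => le_iInf fun hpq => le_iInf fun hp => le_iInf fun hq => ?_
    have h1 := h p q hp hq hpq
    rw [← height_Ici_eq_krullDim_Icc p q hpq, ← WithBot.coe_add] at h1
    rw [ENat.add_one_le_iff (ENat.coe_ne_top s)]
    exact_mod_cast h1

end cutoff

section main

variable (B : Type u) [CommRing B] [IsNoetherianRing B]

/-- Faltings' finiteness theorem in cutoff form, for rings with a dualizing complex. -/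
theorem finite_H_iff_lt_cutoff (hdc : ∃ ω : Dual.D B, Dual.IsDualizing B ω) (J : Ideal B)
    (N : Type u) [AddCommGroup N] [Module B N] [Module.Finite B N] (s : ℕ) :
    (∀ i : ℕ, i ≤ s → Module.Finite B (LocCoh.H J i N)) ↔ (s : ℕ∞) < Dual2.cutoff B J N := by
  have hT : StableUnderSpecialization (PrimeSpectrum.zeroLocus (J : Set B)) :=
    (PrimeSpectrum.isClosed_zeroLocus _).stableUnderSpecialization
  have h1 := Groth.Agent.S1727.result B hdc (PrimeSpectrum.zeroLocus (J : Set B)) hT s N
  have h2 : (∀ i : ℕ, i ≤ s → Module.Finite B (LocCoh.H J i N)) ↔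
      (∀ i : ℕ, i ≤ s → Module.Finite B (Dual2.HT (PrimeSpectrum.zeroLocus (J : Set B)) i N)) := by
    refine forall_congr' fun i => forall_congr' fun hi => ?_
    obtain ⟨e⟩ := nonempty_H_equiv_HT J N i
    exact ⟨fun h => Module.Finite.equiv e, fun h => Module.Finite.equiv e.symm⟩
  rw [h2, h1, lt_cutoff_iff]
  refine forall_congr' fun p => forall_congr' fun q => ?_
  rw [PrimeSpectrum.mem_zeroLocus, PrimeSpectrum.mem_zeroLocus, SetLike.coe_subset_coe,
    SetLike.coe_subset_coe]

end main

end Groth.Agent.Lib.Helper14.CutoffFin
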