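import Mathlib
import Groth.Prelude.Def_DualLC
import Groth.Agent.Lib.Helper4.LocTrans
import Groth.Agent.Lib.Helper12.OrdTools
import Groth.Agent.Lib.Helper14.CutoffFin.Bridge

/-!
# The cutoff condition under localization at a prime (helper14)
-/

set_option autoImplicit false
set_option linter.style.haveILetI false
set_option linter.unusedSectionVars false
set_option linter.unusedVariables false
set_option maxHeartbeats 1600000

universe u

namespace Groth.Agent.Lib.Helper14.CutoffFin

open Groth.Agent.Lib.Helper4 Groth.Agent.Lib.Helper12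

variable (A : Type u) [CommRing A] (𝔮 : Ideal A) [𝔮.IsPrime]

/-- The order embedding `Spec A_𝔮 ↪o Spec A`. -/
noncomputable def specEmb : PrimeSpectrum (Localization.AtPrime 𝔮) ↪o PrimeSpectrum A :=
  OrderEmbedding.ofMapLEIff (PrimeSpectrum.comap (algebraMap A (Localization.AtPrime 𝔮)))
    (fun a b => by
      constructor
      · intro h
        have h1 : a.asIdeal.comap (algebraMap A (Localization.AtPrime 𝔮)) ≤
            b.asIdeal.comap (algebraMap A (Localization.AtPrime 𝔮)) := h
        have h2 := Ideal.map_mono (f := algebraMap A (Localization.AtPrime 𝔮)) h1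
        rw [← Ideal.under_def, ← Ideal.under_def,
          IsLocalization.map_under 𝔮.primeCompl (Localization.AtPrime 𝔮),
          IsLocalization.map_under 𝔮.primeCompl (Localization.AtPrime 𝔮)] at h2
        exact h2
      · intro h
        exact Ideal.comap_mono h)

theorem specEmb_apply (a : PrimeSpectrum (Localization.AtPrime 𝔮)) :
    specEmb A 𝔮 a = PrimeSpectrum.comap (algebraMap A (Localization.AtPrime 𝔮)) a := rfl

theorem specEmb_range_ordConnected : (Set.range (specEmb A 𝔮)).OrdConnected := by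
  refine ⟨?_⟩
  rintro _ ⟨a, rfl⟩ _ ⟨b, rfl⟩ z ⟨hz1, hz2⟩
  have hb : Disjoint (𝔮.primeCompl : Set A)
      ((b.asIdeal.under A : Ideal A) : Set A) :=
    ((IsLocalization.isPrime_iff_isPrime_disjoint 𝔮.primeCompl (Localization.AtPrime 𝔮)
      b.asIdeal).1 b.2).2
  have hz : Disjoint (𝔮.primeCompl : Set A) (z.asIdeal : Set A) :=
    Set.disjoint_of_subset_right (show (z.asIdeal : Set A) ⊆ _ from hz2) hb
  refine ⟨⟨z.asIdeal.map (algebraMap A (Localization.AtPrime 𝔮)),
    IsLocalization.isPrime_of_isPrime_disjoint 𝔮.primeCompl _ _ z.2 hz⟩, ?_⟩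
  apply PrimeSpectrum.ext
  exact IsLocalization.under_map_of_isPrime_disjoint 𝔮.primeCompl (Localization.AtPrime 𝔮) z.2 hz

theorem krullDim_Icc_comap (a b : PrimeSpectrum (Localization.AtPrime 𝔮)) :
    Order.krullDim (Set.Icc (PrimeSpectrum.comap (algebraMap A (Localization.AtPrime 𝔮)) a)
      (PrimeSpectrum.comap (algebraMap A (Localization.AtPrime 𝔮)) b)) =
      Order.krullDim (Set.Icc a b) :=
  OrdTools.krullDim_Icc_eq (specEmb A 𝔮) (specEmb_range_ordConnected A 𝔮) a b

variable [IsNoetherianRing A] (I : Ideal A) (M : Type u) [AddCommGroup M] [Module A M]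
  [Module.Finite A M]

theorem lt_cutoff_localization (s : ℕ) (h : (s : ℕ∞) < Dual2.cutoff A I M) :
    (s : ℕ∞) < Dual2.cutoff (Localization.AtPrime 𝔮)
      (I.map (algebraMap A (Localization.AtPrime 𝔮))) (LocalizedModule 𝔮.primeCompl M) := by
  rw [lt_cutoff_iff] at h ⊢
  intro p q hp hq hpq
  haveI := p.2
  have h1 := h (PrimeSpectrum.comap (algebraMap A (Localization.AtPrime 𝔮)) p)
    (PrimeSpectrum.comap (algebraMap A (Localization.AtPrime 𝔮)) q)
    (fun hle => hp (Ideal.map_le_iff_le_comap.mpr hle))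
    (Ideal.map_le_iff_le_comap.mp hq) (Ideal.comap_mono hpq)
  rw [krullDim_Icc_comap] at h1
  rw [(LocTrans.depth_supportDim_locLoc' 𝔮.primeCompl M p.asIdeal
    (p.asIdeal.comap (algebraMap A (Localization.AtPrime 𝔮))) rfl).1]
  exact h1

theorem lt_of_lt_cutoff_localization (s : ℕ)
    (h : (s : ℕ∞) < Dual2.cutoff (Localization.AtPrime 𝔮)
      (I.map (algebraMap A (Localization.AtPrime 𝔮))) (LocalizedModule 𝔮.primeCompl M))
    (p : PrimeSpectrum A) (hp𝔮 : p ≤ (⟨𝔮, inferInstance⟩ : PrimeSpectrum A))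
    (hIp : ¬ I ≤ p.asIdeal) (hI𝔮 : I ≤ 𝔮) :
    (s : WithBot ℕ∞) < ((LocCoh.depth (Localization.AtPrime p.asIdeal)
          (LocalizedModule p.asIdeal.primeCompl M) : ℕ∞) : WithBot ℕ∞) +
          Order.krullDim (Set.Icc p (⟨𝔮, inferInstance⟩ : PrimeSpectrum A)) := by
  rw [lt_cutoff_iff] at h
  haveI := p.2
  have hdisj : Disjoint (𝔮.primeCompl : Set A) (p.asIdeal : Set A) := by
    rw [Set.disjoint_left]
    intro x hx hxp
    exact hx (hp𝔮 hxp)
  let p'' : PrimeSpectrum (Localization.AtPrime 𝔮) :=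
    ⟨p.asIdeal.map (algebraMap A (Localization.AtPrime 𝔮)),
      IsLocalization.isPrime_of_isPrime_disjoint 𝔮.primeCompl _ _ p.2 hdisj⟩
  let q'' : PrimeSpectrum (Localization.AtPrime 𝔮) :=
    ⟨IsLocalRing.maximalIdeal (Localization.AtPrime 𝔮), inferInstance⟩
  have e1 : PrimeSpectrum.comap (algebraMap A (Localization.AtPrime 𝔮)) p'' = p :=
    PrimeSpectrum.ext
      (IsLocalization.under_map_of_isPrime_disjoint 𝔮.primeCompl (Localization.AtPrime 𝔮) p.2 hdisj)
  have e2 : PrimeSpectrum.comap (algebraMap A (Localization.AtPrime 𝔮)) q'' =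
      (⟨𝔮, inferInstance⟩ : PrimeSpectrum A) :=
    PrimeSpectrum.ext Localization.AtPrime.under_maximalIdeal
  have hpq'' : p'' ≤ q'' := IsLocalRing.le_maximalIdeal p''.2.ne_top
  have h1 := h p'' q''
    (fun hle => hIp (by
      have := Ideal.map_le_iff_le_comap.mp hle
      rwa [← Ideal.under_def, IsLocalization.under_map_of_isPrime_disjoint 𝔮.primeCompl
        (Localization.AtPrime 𝔮) p.2 hdisj] at this))
    (by
      rw [Ideal.map_le_iff_le_comap]
      change I ≤ (IsLocalRing.maximalIdeal (Localization.AtPrime 𝔮)).under A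
      rw [Localization.AtPrime.under_maximalIdeal]
      exact hI𝔮) hpq''
  haveI : p''.asIdeal.IsPrime := p''.2
  have hd := (LocTrans.depth_supportDim_locLoc' 𝔮.primeCompl M p''.asIdeal p.asIdeal
      (IsLocalization.under_map_of_isPrime_disjoint 𝔮.primeCompl (Localization.AtPrime 𝔮)
        p.2 hdisj)).1
  rw [← krullDim_Icc_comap, e1, e2, hd] at h1
  exact h1

end Groth.Agent.Lib.Helper14.CutoffFin
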