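import Mathlib
import Groth.Prelude.Def_DualLC
import Groth.Agent.Lib.Helper20.LCFlat

/-!
# Flat base change for `LocCoh.H` and finiteness (helper14)
-/

set_option autoImplicit false
set_option linter.style.haveILetI false
set_option linter.unusedSectionVars false
set_option linter.unusedVariables false
set_option maxHeartbeats 1600000

universe u

open CategoryTheory TensorProduct

namespace Groth.Agent.Lib.Helper14.CutoffFin

open Groth.Agent.Lib.Helper20 Groth.Agent.Lib.Helper4

section

variable {R : Type u} [CommRing R] [IsNoetherianRing R] (R' : Type u) [CommRing R']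
  [IsNoetherianRing R'] [Algebra R R'] [Module.Flat R R'] (I : Ideal R)
  (M : Type u) [AddCommGroup M] [Module R M]
  (N : Type u) [AddCommGroup N] [Module R' N]

/-- Flat base change for `LocCoh.H`. -/
theorem nonempty_baseChange_H_equiv (e : N ≃ₗ[R'] R' ⊗[R] M) (i : ℕ) :
    Nonempty (R' ⊗[R] LocCoh.H I i M ≃ₗ[R'] LocCoh.H (I.map (algebraMap R R')) i N) := by
  let f1 : R' ⊗[R] LocCoh.H I i M ≃ₗ[R'] R' ⊗[R] LC.HH I (ModuleCat.of R M) i :=
    (LC.lcEquiv I (ModuleCat.of R M) i).baseChange R R' _ _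
  obtain ⟨f2⟩ := LCFlat.nonempty_baseChange_equiv R' I i M
  let f3 := LC.lcEquiv (I.map (algebraMap R R')) (ModuleCat.of R' (R' ⊗[R] M)) i
  let f4 : LocCoh.H (I.map (algebraMap R R')) i (R' ⊗[R] M) ≃ₗ[R']
      LocCoh.H (I.map (algebraMap R R')) i N :=
    ((localCohomology (I.map (algebraMap R R')) i).mapIso e.symm.toModuleIso).toLinearEquiv
  exact ⟨f1.trans (f2.trans (f3.symm.trans f4))⟩

theorem finite_H_of_finite_baseChange [Module.FaithfullyFlat R R'] (e : N ≃ₗ[R'] R' ⊗[R] M)
    (i : ℕ) (h : Module.Finite R' (LocCoh.H (I.map (algebraMap R R')) i N)) :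
    Module.Finite R (LocCoh.H I i M) := by
  obtain ⟨f⟩ := nonempty_baseChange_H_equiv R' I M N e i
  haveI : Module.Finite R' (R' ⊗[R] LocCoh.H I i M) := Module.Finite.equiv f.symm
  exact Module.Finite.of_finite_tensorProduct_of_faithfullyFlat R'

theorem finite_baseChange_of_finite_H (e : N ≃ₗ[R'] R' ⊗[R] M)
    (i : ℕ) (h : Module.Finite R (LocCoh.H I i M)) :
    Module.Finite R' (LocCoh.H (I.map (algebraMap R R')) i N) := by
  obtain ⟨f⟩ := nonempty_baseChange_H_equiv R' I M N e i
  haveI : Module.Finite R' (R' ⊗[R] LocCoh.H I i M) := inferInstance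
  exact Module.Finite.equiv f

end

section loc

variable {R : Type u} [CommRing R] [IsNoetherianRing R] (I : Ideal R)
  (M : Type u) [AddCommGroup M] [Module R M] (𝔮 : Ideal R) [𝔮.IsPrime]

theorem finite_localizedModule_H_iff (i : ℕ) :
    Module.Finite (Localization.AtPrime 𝔮) (LocalizedModule 𝔮.primeCompl (LocCoh.H I i M)) ↔
      Module.Finite (Localization.AtPrime 𝔮)
        (LocCoh.H (I.map (algebraMap R (Localization.AtPrime 𝔮))) i
          (LocalizedModule 𝔮.primeCompl M)) := by
  haveI : IsNoetherianRing (Localization.AtPrime 𝔮) :=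
    IsLocalization.isNoetherianRing 𝔮.primeCompl _ inferInstance
  let e0 : LocalizedModule 𝔮.primeCompl (LocCoh.H I i M) ≃ₗ[Localization.AtPrime 𝔮]
      Localization.AtPrime 𝔮 ⊗[R] LocCoh.H I i M :=
    LocalizedModule.equivTensorProduct 𝔮.primeCompl _
  let e : LocalizedModule 𝔮.primeCompl M ≃ₗ[Localization.AtPrime 𝔮]
      Localization.AtPrime 𝔮 ⊗[R] M :=
    LocalizedModule.equivTensorProduct 𝔮.primeCompl M
  obtain ⟨f⟩ := nonempty_baseChange_H_equiv (Localization.AtPrime 𝔮) I M
    (LocalizedModule 𝔮.primeCompl M) e i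
  exact ⟨fun h => Module.Finite.equiv (e0.trans f), fun h => Module.Finite.equiv (e0.trans f).symm⟩

end loc

end Groth.Agent.Lib.Helper14.CutoffFin
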