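import Mathlib
import Groth.Prelude.Def_DualLC
import Groth.Prelude.Def_EGA4b
import Groth.Agent.S0376
import Groth.Agent.Lib.Helper14.FEChain2
import Groth.Agent.Lib.Helper14.ComplEtale
import Groth.Agent.Lib.Helper14.Cutoff.Part1
import Groth.Agent.Lib.Helper14.Cutoff.Part2
import Groth.Agent.Lib.Helper14.CutoffFin.Bridge
import Groth.Agent.Lib.Helper14.CutoffFin.BaseChange

/-!
# Faltings finiteness via the cutoff invariant: the local case (helper14)
-/

set_option autoImplicit false
set_option linter.style.haveILetI false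
set_option linter.unusedSectionVars false
set_option linter.unusedVariables false
set_option maxHeartbeats 1600000

universe u

open TensorProduct IsLocalRing

namespace Groth.Agent.Lib.Helper14.CutoffFin

variable (B : Type u) [CommRing B] [IsLocalRing B] [IsNoetherianRing B]
  (J : Ideal B) (N : Type u) [AddCommGroup N] [Module B N] [Module.Finite B N]

local notation "B'" => AdicCompletion (maximalIdeal B) B
local notation "N'" => AdicCompletion (maximalIdeal B) N

theorem finite_H_local (hUC : CAlg.IsUniversallyCatenary B) (n : ℕ)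
    (hSn : EGA4.HasSnFormalFibres n B) (s : ℕ) (hsn : s ≤ n)
    (hs : (s : ℕ∞) < Dual2.cutoff B J N) :
    ∀ i : ℕ, i ≤ s → Module.Finite B (LocCoh.H J i N) := by
  haveI : IsNoetherianRing B' := ComplEtale.isNoetherianRing_completion B
  haveI : IsAdicComplete (maximalIdeal B') B' := FEChain2.isAdicComplete_cpl B
  haveI : Module.FaithfullyFlat B B' := Module.FaithfullyFlat.of_flat_of_isLocalHom
  let e : N' ≃ₗ[B'] B' ⊗[B] N :=
    (AdicCompletion.ofTensorProductEquivOfFiniteNoetherian (maximalIdeal B) N).symm
  haveI : Module.Finite B' N' := Module.Finite.equiv e.symm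
  have hdc := Groth.Agent.S0376.result B'
  have h1 := Cutoff.min_cutoff_le_completion B hUC J N n hSn
  have h2 : (s : ℕ∞) < min ((n : ℕ∞) + 1) (Dual2.cutoff B J N) := by
    refine lt_min ?_ hs
    have : (s : ℕ∞) < ((n + 1 : ℕ) : ℕ∞) := by exact_mod_cast Nat.lt_succ_of_le hsn
    exact_mod_cast this
  have h3 := lt_of_lt_of_le h2 h1
  have h4 := (finite_H_iff_lt_cutoff B' hdc (J.map (algebraMap B B')) N' s).mpr h3
  intro i hi
  exact finite_H_of_finite_baseChange B' J N N' e i (h4 i hi)

theorem lt_cutoff_of_finite_H_local (s : ℕ)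
    (h : ∀ i : ℕ, i ≤ s → Module.Finite B (LocCoh.H J i N)) :
    (s : ℕ∞) < Dual2.cutoff B J N := by
  haveI : IsNoetherianRing B' := ComplEtale.isNoetherianRing_completion B
  haveI : IsAdicComplete (maximalIdeal B') B' := FEChain2.isAdicComplete_cpl B
  let e : N' ≃ₗ[B'] B' ⊗[B] N :=
    (AdicCompletion.ofTensorProductEquivOfFiniteNoetherian (maximalIdeal B) N).symm
  haveI : Module.Finite B' N' := Module.Finite.equiv e.symm
  have hdc := Groth.Agent.S0376.result B'
  have h1 : ∀ i : ℕ, i ≤ s → Module.Finite B' (LocCoh.H (J.map (algebraMap B B')) i N') :=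
    fun i hi => finite_baseChange_of_finite_H B' J N N' e i (h i hi)
  have h2 := (finite_H_iff_lt_cutoff B' hdc (J.map (algebraMap B B')) N' s).mp h1
  exact lt_of_lt_of_le h2 (Cutoff.cutoff_completion_le B J N)

end Groth.Agent.Lib.Helper14.CutoffFin
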