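import Mathlib
import Groth.Prelude.Def_DualLC
import Groth.Prelude.Def_EGA4b
import Groth.Agent.S0330
import Groth.Agent.Lib.Helper20.LCStalk
import Groth.Agent.Lib.Helper14.ExcellentLoc
import Groth.Agent.Lib.Helper14.CutoffFin.Local
import Groth.Agent.Lib.Helper14.CutoffFin.Loc

/-!
# Faltings finiteness via the cutoff invariant: globalization (helper14)
-/

set_option autoImplicit false
set_option linter.style.haveILetI false
set_option linter.unusedSectionVars false
set_option linter.unusedVariables false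
set_option maxHeartbeats 1600000

universe u

open TensorProduct IsLocalRing

namespace Groth.Agent.Lib.Helper14.CutoffFin

variable (A : Type u) [CommRing A] [IsNoetherianRing A]
  (I : Ideal A) (M : Type u) [AddCommGroup M] [Module A M] [Module.Finite A M]

/-- local cohomology with respect to the unit ideal vanishes. -/
theorem subsingleton_H_of_eq_top {R : Type u} [CommRing R] (J : Ideal R) (hJ : J = ⊤)
    (N : Type u) [AddCommGroup N] [Module R N] (i : ℕ) : Subsingleton (LocCoh.H J i N) := by
  refine ⟨fun x y => ?_⟩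
  have hz : ∀ z : LocCoh.H J i N, z = 0 := by
    intro z
    obtain ⟨n, hn⟩ := Groth.Agent.Lib.Helper20.LCStalk.H_exists_pow_smul_eq_zero J N i z
    have h1 : (1 : R) ∈ J ^ n := by
      rw [hJ, Ideal.top_pow]; exact Submodule.mem_top
    have := hn 1 h1
    rwa [one_smul] at this
  rw [hz x, hz y]

/-- Finiteness of local cohomology below the cutoff, given `(S_n)` formal fibres at the primes
containing `I`. -/
theorem finite_H_of_lt_cutoff (hUC : CAlg.IsUniversallyCatenary A) (n : ℕ)
    (hF : ∀ q : PrimeSpectrum A, I ≤ q.asIdeal →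
      EGA4.HasSnFormalFibres n (Localization.AtPrime q.asIdeal))
    (s : ℕ) (hsn : s ≤ n) (hs : (s : ℕ∞) < Dual2.cutoff A I M) :
    ∀ i : ℕ, i ≤ s → Module.Finite A (LocCoh.H I i M) := by
  rw [Groth.Agent.S0330.result A I M s]
  intro 𝔮 _ i hi
  haveI : IsNoetherianRing (Localization.AtPrime 𝔮) :=
    IsLocalization.isNoetherianRing 𝔮.primeCompl _ inferInstance
  rw [finite_localizedModule_H_iff]
  by_cases hI𝔮 : I ≤ 𝔮
  · have hUC' : CAlg.IsUniversallyCatenary (Localization.AtPrime 𝔮) :=
      ExcellentLoc.isUniversallyCatenary_localization A 𝔮.primeCompl (Localization.AtPrime 𝔮) hUC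
    exact finite_H_local (Localization.AtPrime 𝔮) (I.map (algebraMap A (Localization.AtPrime 𝔮)))
      (LocalizedModule 𝔮.primeCompl M) hUC' n (hF ⟨𝔮, inferInstance⟩ hI𝔮) s hsn
      (lt_cutoff_localization A 𝔮 I M s hs) i hi
  · have htop : I.map (algebraMap A (Localization.AtPrime 𝔮)) = ⊤ := by
      obtain ⟨x, hxI, hx𝔮⟩ := SetLike.not_le_iff_exists.mp hI𝔮
      apply Ideal.eq_top_of_isUnit_mem _ (Ideal.mem_map_of_mem _ hxI)
      exact IsLocalization.map_units (Localization.AtPrime 𝔮) (⟨x, hx𝔮⟩ : 𝔮.primeCompl)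
    haveI := subsingleton_H_of_eq_top _ htop (LocalizedModule 𝔮.primeCompl M) i
    exact Module.Finite.of_surjective (0 : Localization.AtPrime 𝔮 →ₗ[Localization.AtPrime 𝔮] _)
      (fun x => ⟨0, Subsingleton.elim _ _⟩)

/-- Non-finiteness at the cutoff. -/
theorem not_finite_H_cutoff (hUC : CAlg.IsUniversallyCatenary A) (s : ℕ)
    (hs : Dual2.cutoff A I M = s)
    (hlow : ∀ i : ℕ, i < s → Module.Finite A (LocCoh.H I i M)) :
    ¬ Module.Finite A (LocCoh.H I s M) := by
  intro hfin
  have hall : ∀ i : ℕ, i ≤ s → Module.Finite A (LocCoh.H I i M) := by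
    intro i hi
    rcases Nat.lt_or_eq_of_le hi with h | h
    · exact hlow i h
    · rw [h]; exact hfin
  have hloc := (Groth.Agent.S0330.result A I M s).mp hall
  -- there is a pair attaining the infimum
  have hex : ∃ (p q : PrimeSpectrum A) (hpq : p ≤ q), ¬ I ≤ p.asIdeal ∧ I ≤ q.asIdeal ∧
      LocCoh.depth (Localization.AtPrime p.asIdeal) (LocalizedModule p.asIdeal.primeCompl M) +
        Order.height (⟨q, hpq⟩ : Set.Ici p) ≤ (s : ℕ∞) := by
    by_contra hcon
    push Not at hcon
    have : ((s : ℕ∞) + 1) ≤ Dual2.cutoff A I M := by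
      unfold Dual2.cutoff
      refine le_iInf fun p => le_iInf fun q => le_iInf fun hpq => le_iInf fun hp =>
        le_iInf fun hq => ?_
      rw [ENat.add_one_le_iff (ENat.coe_ne_top s)]
      exact hcon p q hpq hp hq
    rw [hs, ENat.add_one_le_iff (ENat.coe_ne_top s)] at this
    exact lt_irrefl _ this
  obtain ⟨p, q, hpq, hIp, hIq, hle⟩ := hex
  haveI := q.2
  haveI : IsNoetherianRing (Localization.AtPrime q.asIdeal) :=
    IsLocalization.isNoetherianRing q.asIdeal.primeCompl _ inferInstance
  have h1 : ∀ i : ℕ, i ≤ s → Module.Finite (Localization.AtPrime q.asIdeal)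
      (LocCoh.H (I.map (algebraMap A (Localization.AtPrime q.asIdeal))) i
        (LocalizedModule q.asIdeal.primeCompl M)) := by
    intro i hi
    rw [← finite_localizedModule_H_iff]
    exact hloc q.asIdeal i hi
  have h2 := lt_cutoff_of_finite_H_local (Localization.AtPrime q.asIdeal)
    (I.map (algebraMap A (Localization.AtPrime q.asIdeal)))
    (LocalizedModule q.asIdeal.primeCompl M) s h1
  have h3 := lt_of_lt_cutoff_localization A q.asIdeal I M s h2 p hpq hIp hIq
  have h4 : ((LocCoh.depth (Localization.AtPrime p.asIdeal)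
      (LocalizedModule p.asIdeal.primeCompl M) : ℕ∞) : WithBot ℕ∞) +
      Order.krullDim (Set.Icc p (⟨q.asIdeal, inferInstance⟩ : PrimeSpectrum A)) ≤
      ((s : ℕ∞) : WithBot ℕ∞) := by
    have : (⟨q.asIdeal, inferInstance⟩ : PrimeSpectrum A) = q := rfl
    rw [this, ← height_Ici_eq_krullDim_Icc p q hpq, ← WithBot.coe_add]
    exact_mod_cast hle
  exact absurd (lt_of_lt_of_le h3 h4) (lt_irrefl _)

end Groth.Agent.Lib.Helper14.CutoffFin
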