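import Mathlib
import Groth.Agent.Lib.Helper14.CutoffFin.ClosedAss
import Groth.Agent.Lib.Helper9.AssTensor
import Groth.Agent.Lib.Helper25.NoEmbBC

/-!
# Kollár's criterion: the closed-point condition from completions of `A_q/pA_q` (helper14)
-/

set_option autoImplicit false
set_option linter.style.haveILetI false
set_option linter.unusedSectionVars false
set_option linter.unusedVariables false
set_option maxHeartbeats 1600000

universe u

open TensorProduct IsLocalRing

namespace Groth.Agent.Lib.Helper14.CutoffFin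

section L1

variable {R : Type u} [CommRing R] [IsNoetherianRing R] (𝔞 : Ideal R)

/-- associated primes of `R/𝔞` over `R` give associated primes of the ring `R/𝔞`. -/
theorem map_mk_mem_associatedPrimes (P : Ideal R)
    (hP : P ∈ associatedPrimes R (R ⧸ (𝔞 • (⊤ : Submodule R R)))) :
    𝔞 ≤ P ∧ P.map (Ideal.Quotient.mk 𝔞) ∈ associatedPrimes (R ⧸ 𝔞) (R ⧸ 𝔞) := by
  obtain ⟨hPp, x, hx⟩ := isAssociatedPrime_iff.mp hP
  obtain ⟨r, rfl⟩ := Submodule.Quotient.mk_surjective _ x
  have htop : (𝔞 • (⊤ : Submodule R R)) = 𝔞 := by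
    rw [Ideal.smul_eq_mul, Ideal.mul_top]
  have hmem : ∀ a : R, a ∈ P ↔ a * r ∈ 𝔞 := by
    intro a
    rw [hx, Submodule.mem_colon_singleton, Submodule.mem_bot, ← Submodule.Quotient.mk_smul,
      Submodule.Quotient.mk_eq_zero, htop, smul_eq_mul]
  have hle : 𝔞 ≤ P := fun a ha => (hmem a).mpr (𝔞.mul_mem_right r ha)
  refine ⟨hle, ?_⟩
  haveI := hPp
  have hker : RingHom.ker (Ideal.Quotient.mk 𝔞) ≤ P := by rwa [Ideal.mk_ker]
  refine isAssociatedPrime_iff.mpr
    ⟨Ideal.map_isPrime_of_surjective Ideal.Quotient.mk_surjective hker,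
      Ideal.Quotient.mk 𝔞 r, ?_⟩
  ext y
  obtain ⟨a, rfl⟩ := Ideal.Quotient.mk_surjective y
  rw [Submodule.mem_colon_singleton, Submodule.mem_bot, smul_eq_mul, ← map_mul,
    Ideal.Quotient.eq_zero_iff_mem, ← hmem a]
  constructor
  · intro h
    obtain ⟨b, hb, hab⟩ := (Ideal.mem_map_iff_of_surjective _ Ideal.Quotient.mk_surjective).mp h
    have : a - b ∈ 𝔞 := by
      rw [← Ideal.Quotient.eq_zero_iff_mem, map_sub, hab, sub_self]
    have h2 : a = (a - b) + b := by ring
    rw [h2]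
    exact P.add_mem (hle this) hb
  · intro h
    exact Ideal.mem_map_of_mem _ h

end L1

section L2

variable {R C : Type u} [CommRing R] [CommRing C] (𝔞 P : Ideal R) (hle : 𝔞 ≤ P)
  (ε : (R ⧸ 𝔞) ≃+* C)

include hle in
/-- dimension transport along `R/𝔞 ≃ C`. -/
theorem ringKrullDim_quot_transport :
    ringKrullDim (C ⧸ ((P.map (Ideal.Quotient.mk 𝔞)).comap (ε.symm : C →+* R ⧸ 𝔞))) =
      ringKrullDim (R ⧸ P) := by
  have h1 : P.map (Ideal.Quotient.mk 𝔞) =
      (((P.map (Ideal.Quotient.mk 𝔞)).comap (ε.symm : C →+* R ⧸ 𝔞))).map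
        (ε.symm : C →+* R ⧸ 𝔞) :=
    (Ideal.map_comap_of_surjective _ ε.symm.surjective _).symm
  let e1 := Ideal.quotientEquiv _ _ ε.symm h1
  let e2 := DoubleQuot.quotQuotEquivQuotOfLE hle
  exact ringKrullDim_eq_of_ringEquiv (e1.trans e2)

end L2

section main

variable (A : Type u) [CommRing A] [IsNoetherianRing A] (I : Ideal A)
  (M : Type u) [AddCommGroup M] [Module A M] [Module.Finite A M]

open EGA4 in
/-- Kollár's condition at `𝔮` gives the condition on associated primes of the completed module. -/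
theorem kollar_closed (𝔮 : Ideal A) [𝔮.IsPrime] (hI𝔮 : I ≤ 𝔮)
    (h : ∀ p : Ideal A, p ∈ associatedPrimes A M → ¬ I ≤ p → p ≤ 𝔮 →
      ∀ P ∈ associatedPrimes
        (AdicCompletion ((maximalIdeal (Localization.AtPrime 𝔮)).map
          (Ideal.Quotient.mk (p.map (algebraMap A (Localization.AtPrime 𝔮)))))
          (Localization.AtPrime 𝔮 ⧸ p.map (algebraMap A (Localization.AtPrime 𝔮))))
        (AdicCompletion ((maximalIdeal (Localization.AtPrime 𝔮)).map
          (Ideal.Quotient.mk (p.map (algebraMap A (Localization.AtPrime 𝔮)))))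
          (Localization.AtPrime 𝔮 ⧸ p.map (algebraMap A (Localization.AtPrime 𝔮)))),
        (2 : WithBot ℕ∞) ≤ ringKrullDim
          (AdicCompletion ((maximalIdeal (Localization.AtPrime 𝔮)).map
            (Ideal.Quotient.mk (p.map (algebraMap A (Localization.AtPrime 𝔮)))))
            (Localization.AtPrime 𝔮 ⧸ p.map (algebraMap A (Localization.AtPrime 𝔮))) ⧸ P)) :
    ∀ P' : Ideal (Bc A 𝔮), P' ∈ associatedPrimes (Bc A 𝔮) (Bc A 𝔮 ⊗[A] M) →
      ¬ I.map (algebraMap A (Bc A 𝔮)) ≤ P' → (2 : WithBot ℕ∞) ≤ ringKrullDim (Bc A 𝔮 ⧸ P') := by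
  intro P' hP' hnI
  haveI : IsNoetherianRing (Localization.AtPrime 𝔮) :=
    IsLocalization.isNoetherianRing 𝔮.primeCompl _ inferInstance
  haveI : IsNoetherianRing (Bc A 𝔮) :=
    ComplEtale.isNoetherianRing_completion (Localization.AtPrime 𝔮)
  haveI : Module.Flat A (Localization.AtPrime 𝔮) :=
    IsLocalization.flat (Localization.AtPrime 𝔮) 𝔮.primeCompl
  haveI : Module.Flat A (Bc A 𝔮) := Module.Flat.trans A (Localization.AtPrime 𝔮) (Bc A 𝔮)
  rw [Groth.Agent.Lib.Helper9.AssTensor.associatedPrimes_tensor_eq (R := A) (S := Bc A 𝔮)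
    (Bc A 𝔮) M] at hP'
  simp only [Set.mem_iUnion] at hP'
  obtain ⟨p, hp, hP'p⟩ := hP'
  haveI hpp : p.IsPrime := hp.isPrime
  have h𝔞 : p.map (algebraMap A (Bc A 𝔮)) =
      (p.map (algebraMap A (Localization.AtPrime 𝔮))).map
        (algebraMap (Localization.AtPrime 𝔮) (Bc A 𝔮)) := by
    rw [Ideal.map_map, ← IsScalarTower.algebraMap_eq]
  have hle0 := (map_mk_mem_associatedPrimes (p.map (algebraMap A (Bc A 𝔮))) P' hP'p).1
  rw [h𝔞] at hP'p
  obtain ⟨hle, hass⟩ := map_mk_mem_associatedPrimes _ P' hP'p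
  have hP'prime : P'.IsPrime := by
    have := (isAssociatedPrime_iff.mp hP'p).1
    exact this
  have hIp : ¬ I ≤ p := fun hIp => hnI ((Ideal.map_mono hIp).trans hle0)
  have hp𝔮 : p ≤ 𝔮 := by
    intro a ha
    by_contra ha𝔮
    have hu : IsUnit (algebraMap A (Localization.AtPrime 𝔮) a) :=
      IsLocalization.map_units _ (⟨a, ha𝔮⟩ : 𝔮.primeCompl)
    have hu' : IsUnit (algebraMap A (Bc A 𝔮) a) := by
      rw [IsScalarTower.algebraMap_apply A (Localization.AtPrime 𝔮) (Bc A 𝔮)]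
      exact hu.map _
    exact hP'prime.ne_top (Ideal.eq_top_of_isUnit_mem _ (hle0 (Ideal.mem_map_of_mem _ ha)) hu')
  have hne : p.map (algebraMap A (Localization.AtPrime 𝔮)) ≠ ⊤ := by
    intro htop
    have : maximalIdeal (Localization.AtPrime 𝔮) = ⊤ := by
      rw [eq_top_iff, ← htop, ← Localization.AtPrime.map_eq_maximalIdeal (I := 𝔮)]
      exact Ideal.map_mono hp𝔮
    exact (maximalIdeal.isMaximal _).ne_top this
  haveI : Nontrivial (Localization.AtPrime 𝔮 ⧸ p.map (algebraMap A (Localization.AtPrime 𝔮))) :=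
    Ideal.Quotient.nontrivial_iff.mpr hne
  obtain ⟨ε⟩ := FEChain2.nonempty_quotient_map_equiv (Localization.AtPrime 𝔮)
    (p.map (algebraMap A (Localization.AtPrime 𝔮)))
  have hQ := Groth.Agent.Lib.Helper25.NoEmbBC.mem_associatedPrimes_comap_ringEquiv ε.symm _ hass
  have hh := h p hp hIp hp𝔮
  rw [IsLocalRing.map_maximalIdeal_of_surjective _ Ideal.Quotient.mk_surjective] at hh
  have h2 := hh _ hQ
  rw [ringKrullDim_quot_transport _ P' hle ε] at h2
  exact h2

end main

end Groth.Agent.Lib.Helper14.CutoffFin
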